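import Cfsg.Agent.Lib.Sporadic.MatF2
import Cfsg.Agent.Lib.Fusion48.RepTable

/-!
The centraliser of a transvection of `SL(5,2)` by codes, with its Sylow subgroup, the two elementary
abelian subgroups of order sixty-four and the representatives of its involution classes.
-/

set_option autoImplicit false

namespace CfsgLib.HeUnique

open Matrix CfsgLib.Sporadic CfsgLib.Fusion48.RepTable

/-- The special linear group. -/
abbrev SLFive : Type := Matrix.SpecialLinearGroup (Fin 5) (ZMod 2)

/-- The transvection. -/
def sEl : SLFive :=
  ⟨Matrix.transvection 0 1 1, Matrix.det_transvection_of_ne _ _ (by decide) _⟩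

/-- Its centraliser. -/
abbrev C0 : Type := ↥(Subgroup.centralizer ({sEl} : Set SLFive))

/-- The transvection in its centraliser. -/
def z0 : C0 := ⟨sEl, Subgroup.mem_centralizer_singleton_iff.2 rfl⟩

/-- A code of an element. -/
def Rep (c : ℕ) (x : C0) : Prop :=
  canonF2 5 c = true ∧ ((x : SLFive) : Matrix (Fin 5) (Fin 5) (ZMod 2)) = decF2 5 c

open Classical in
/-- The element with a code, the identity if there is none. -/
noncomputable def el (c : ℕ) : C0 := if h : ∃ x, Rep c x then h.choose else 1

theorem rep_unique {c : ℕ} {x y : C0} (hx : Rep c x) (hy : Rep c y) : x = y :=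
  Subtype.ext (Subtype.ext (hx.2.trans hy.2.symm))

theorem rep_el {c : ℕ} (h : ∃ x, Rep c x) : Rep c (el c) := by
  rw [el, dif_pos h]
  exact h.choose_spec

theorem el_eq {c : ℕ} {x : C0} (h : Rep c x) : el c = x := rep_unique (rep_el ⟨x, h⟩) h

/-- The bit of the entry in row `i` and column `j`. -/
def entry (p : ℕ × ℕ) : ℕ := 1 <<< (5 * p.1 + p.2)

/-- The code of the identity. -/
def oneC : ℕ := 17043521

/-- The code of the transvection. -/
def zC : ℕ := 17043523

/-- The ten entries of the Sylow subgroup, the first six those of the first subgroup of order 64. -/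
def posS : List (ℕ × ℕ) :=
  [(0, 3), (0, 4), (0, 1), (2, 3), (2, 4), (2, 1), (0, 2), (3, 4), (3, 1), (4, 1)]

/-- The six entries of each subgroup of order sixty-four. -/
def posE (i : Fin 2) : List (ℕ × ℕ) :=
  if i = 0 then [(0, 3), (0, 4), (0, 1), (2, 3), (2, 4), (2, 1)]
  else [(0, 4), (0, 1), (2, 4), (2, 1), (3, 4), (3, 1)]

/-- The matrix with ones on the diagonal and at chosen entries. -/
def bitsCode (ps : List (ℕ × ℕ)) (v : ℕ) : ℕ :=
  (List.range ps.length).foldl
    (fun c k => if v.testBit k then c ||| entry (ps.getD k (0, 0)) else c) oneC

/-- The element with given coordinates in a subgroup of order sixty-four. -/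
noncomputable def eEl (i : Fin 2) (v : ℕ) : C0 := el (bitsCode (posE i) v)

/-- The coordinates of the transvection. -/
def zIdx (i : Fin 2) : ℕ := if i = 0 then 4 else 2

/-- The Sylow subgroup. -/
noncomputable def Sg : Subgroup C0 :=
  Subgroup.closure {x | ∃ k < 10, el (bitsCode posS (2 ^ k)) = x}

/-- The two subgroups of order sixty-four. -/
noncomputable def Eg (i : Fin 2) : Subgroup C0 :=
  Subgroup.closure {x | ∃ k < 6, eEl i (2 ^ k) = x}

/-- The representatives of the classes of elements of order at most two: the identity, seven classes
of non-central involutions and, at index 2, the transvection. -/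
def repC : List ℕ :=
  [17043521, 17043529, 17043523, 17051713, 17051729, 17051715, 17045569, 17045577, 17569857]

/-- A representative. -/
noncomputable def repEl (k : ℕ) : C0 := el (repC.getD k oneC)

/-- Being in the class with index `k`. -/
def HasClass (x : C0) (k : ℕ) : Prop := ∃ c : C0, c * repEl k * c⁻¹ = x

/-- The classes of the elements of the subgroups of order sixty-four, four bits each. -/
def labData (i : Fin 2) : ℕ :=
  if i = 0 then 0x3445544343454543443544537776777654453443454543434455443311121110
  else 0x3553888888883553888876768888767688888888553355333553767655331210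

/-- The class of an element of a subgroup of order sixty-four. -/
def labE (i : Fin 2) (v : ℕ) : ℕ := (labData i >>> (4 * v)) % 16

/-- The classes fused with the transvection: the case of `SL(5,2)`. -/
def rL : ℕ := 78
/-- The classes fused with the transvection: the case of the Mathieu group. -/
def rA : ℕ := 94
/-- The case of the Mathieu group, seen through the other orientation. -/
def rB : ℕ := 334
/-- The classes fused with the transvection: the case of the Held group. -/
def rH : ℕ := 350
/-- The classes fused with the transvection: the first stabiliser case. -/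
def rP : ℕ := 6
/-- The classes fused with the transvection: the second stabiliser case. -/
def rQ : ℕ := 68

/-- An element with given coordinates is fused to the transvection. -/
def inO (r : ℕ) (i : Fin 2) (v : ℕ) : Bool := r.testBit (labE i v)

/-- An element of a subgroup of order sixty-four is fused to the transvection. -/
def InO (r : ℕ) (i : Fin 2) (x : C0) : Prop := ∃ v < 64, eEl i v = x ∧ inO r i v = true

/-- The automorphisms of a subgroup of order sixty-four preserving the fused elements. -/
def Stab (r : ℕ) (i : Fin 2) : Subgroup (MulAut (Eg i)) where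
  carrier := {a | ∀ x : Eg i, InO r i (a x : C0) ↔ InO r i (x : C0)}
  one_mem' := fun _ => Iff.rfl
  mul_mem' := fun {a b} ha hb x => (ha (b x)).trans (hb x)
  inv_mem' := fun {a} ha x => ((ha (a⁻¹ x)).symm.trans (by simp))

/-- Generators of the complement in the normaliser adapted to the fusion. -/
def compC (r : ℕ) (i : Fin 2) : List ℕ :=
  if i = 0 then (if r.testBit 8 then [0x10c1043, 0x1a5105f] else [0x10c1041, 0x1a51045])
  else (if r.testBit 4 then [0x1043043, 0x1261849] else [0x1043041, 0x1261049])

/-- The adapted complement. -/
noncomputable def Comp (r : ℕ) (i : Fin 2) : Subgroup C0 :=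
  Subgroup.closure {x | ∃ c ∈ compC r i, el c = x}

/-- Two elements of the normaliser are conjugate in the semidirect product of the subgroup of order
sixty-four by the stabiliser of the fused elements, into which the normaliser is embedded by means of
the adapted complement. -/
def AffConj (r : ℕ) (i : Fin 2) (x y : C0) : Prop :=
  ∃ lx ∈ Comp r i, ∃ ly ∈ Comp r i, ∃ ex ey e : Eg i, ∃ b ∈ Stab r i,
    (ex : C0) * lx = x ∧ (ey : C0) * ly = y ∧
    (∀ u v : Eg i, (v : C0) = x * u * x⁻¹ → (b v : C0) = y * (b u : C0) * y⁻¹) ∧
    (e : C0) * (b ex : C0) = (ey : C0) * (y * (e : C0) * y⁻¹)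

/-- An endomorphism of the normaliser that is compatible with the fusion. -/
def Stable (r : ℕ) (i : Fin 2) (a : ↥(Subgroup.normalizer (Eg i : Set C0)) →* C0) : Prop :=
  ∀ x y : ↥(Subgroup.normalizer (Eg i : Set C0)), (x : C0) * x = 1 → AffConj r i x y →
    ∀ k l : ℕ, HasClass (a x) k → HasClass (a y) l → r.testBit k = r.testBit l

end CfsgLib.HeUnique
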