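import Cfsg.Agent.Lib.HeUnique.C0.Defs
import Cfsg.Prelude.Def_Transfer

/-!
The facts about the centraliser of a transvection of `SL(5,2)` used in the local analysis.
-/

set_option autoImplicit false

namespace CfsgLib.HeUnique

/-- The facts that do not depend on the fusion. -/
structure CentFacts : Prop where
  card_C0 : Nat.card C0 = 21504
  z0_ne : z0 ≠ 1
  z0_sq : z0 * z0 = 1
  z0_comm : ∀ x : C0, z0 * x = x * z0
  center : ∀ x : C0, (∀ y : C0, x * y = y * x) → x = 1 ∨ x = z0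
  repEl_zero : repEl 0 = 1
  repEl_two : repEl 2 = z0
  classes : ∀ x : C0, x * x = 1 → ∃ k < 9, HasClass x k
  card_Sg : Nat.card Sg = 1024
  center_Sg : ∀ x ∈ Sg, (∀ y ∈ Sg, x * y = y * x) → x = 1 ∨ x = z0
  norm_Sg : Subgroup.normalizer (Sg : Set C0) ≤ Sg
  Eg_le : ∀ i, Eg i ≤ Sg
  Sg_le : ∀ i, Sg ≤ Subgroup.normalizer (Eg i : Set C0)
  Eg_ne : Eg 0 ≠ Eg 1
  mem_Eg : ∀ i x, x ∈ Eg i ↔ ∃ v < 64, eEl i v = x
  eEl_mul : ∀ i, ∀ v < 64, ∀ w < 64, eEl i v * eEl i w = eEl i (v ^^^ w)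
  eEl_inj : ∀ i, ∀ v < 64, ∀ w < 64, eEl i v = eEl i w → v = w
  eEl_zero : ∀ i, eEl i 0 = 1
  eEl_z : ∀ i, eEl i (zIdx i) = z0
  cent_Eg : ∀ i, Subgroup.centralizer (Eg i : Set C0) = Eg i
  card_norm_Eg : ∀ i, Nat.card (Subgroup.normalizer (Eg i : Set C0)) = 3072
  lab : ∀ i, ∀ v < 64, HasClass (eEl i v) (labE i v)
  classify : ∀ F : Subgroup C0, F ≤ Sg → Cfsg.IsElementaryAbelian 2 F → Nat.card F = 64 →
    F = Eg 0 ∨ F = Eg 1

/-- The facts depending on the set `r` of fused classes. -/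
structure CaseFacts (r : ℕ) (i : Fin 2) : Prop where
  stab : ∀ a ∈ Stab r i, (∀ x : Eg i, (x : C0) = z0 → (a x : C0) = z0) →
    ∃ c ∈ Subgroup.normalizer (Eg i : Set C0), ∀ x : Eg i, (a x : C0) = c * x * c⁻¹
  comp_le : Comp r i ≤ Subgroup.normalizer (Eg i : Set C0)
  comp_inf : Comp r i ⊓ Eg i = ⊥
  comp_sup : Subgroup.normalizer (Eg i : Set C0) ≤ Eg i ⊔ Comp r i
  gauge : ∀ a : ↥(Subgroup.normalizer (Eg i : Set C0)) →* C0,
    (∀ x : ↥(Subgroup.normalizer (Eg i : Set C0)), (x : C0) ∈ Eg i → a x = x) →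
    (∀ x : ↥(Subgroup.normalizer (Eg i : Set C0)), a x * (x : C0)⁻¹ ∈ Eg i) → Stable r i a →
    ∃ f ∈ Eg i, ∀ x : ↥(Subgroup.normalizer (Eg i : Set C0)), a x = f * x * f⁻¹

end CfsgLib.HeUnique
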